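import Cfsg.Agent.ExA.F
import Cfsg.Agent.AltD.C

/-! Eigenvalue counts for abelian groups and lifts of elementary abelian `2`-groups. -/

set_option autoImplicit false

namespace CF.ExA

open Subgroup Function Finset Module Equiv Equiv.Perm CF.Fus Multiplicative

section Lin

variable {K V : Type*} [Field K] [AddCommGroup V] [Module K V] {I : Type*} [Fintype I]

theorem finrank_eig [DecidableEq K] (b : Basis I K V) {f : End K V} {l : I → K} (h : ∀ i, f (b i) = l i • b i)
    (μ : K) : finrank K (f.eigenspace μ) = #{i | l i = μ} := by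
  have h1 : ∀ i v, b.repr (f v) i = l i * b.repr v i := fun i v =>
    LinearMap.congr_fun (b.ext (f₁ := b.coord i ∘ₗ f) (f₂ := l i • b.coord i) fun j => by
      by_cases e : j = i <;> simp [h, e]) v
  rw [← Fintype.card_subtype, ← finrank_span_eq_card
    (b.linearIndependent.comp (fun i : {i // l i = μ} => i.1) Subtype.val_injective),
    Set.range_comp]
  refine congrArg (fun W : Submodule K V => finrank K W) ?_
  refine le_antisymm (fun v hv => b.mem_span_image.2 fun i hi => ?_) (Submodule.span_le.2 ?_)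
  · have := h1 i v
    rw [End.mem_eigenspace_iff.1 hv, map_smul, Finsupp.smul_apply, smul_eq_mul,
      mul_left_inj' (by simpa using hi)] at this
    simpa using this.symm
  · rintro _ ⟨_, ⟨i, rfl⟩, rfl⟩
    exact End.mem_eigenspace_iff.2 ((h _).trans (by rw [i.2]))

theorem exists_eigb [IsAlgClosed K] [FiniteDimensional K V] {E : Type*} [CommGroup E]
    (ρ : E →* End K V) {m : ℕ} (hm : (m : K) ≠ 0) (h : ∀ g : E, g ^ m = 1)
    (hI : finrank K V = Fintype.card I) :
    ∃ (b : Basis I K V) (l : I → E →* Kˣ), ∀ g i, ρ g (b i) = (l i g : K) • b i := by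
  have h1 : ∀ g, (ρ g).IsSemisimple := fun g => End.isSemisimple_of_squarefree_aeval_eq_zero
    (Polynomial.separable_X_pow_sub_C (1 : K) hm one_ne_zero).squarefree
    (by rw [map_sub, map_pow, Polynomial.aeval_X, ← map_pow, h]; simp)
  have h2 := End.iSup_iInf_maxGenEigenspace_eq_top_of_iSup_maxGenEigenspace_eq_top_of_commute ρ
    (fun a b _ => (Commute.all a b).map ρ) fun g => End.iSup_maxGenEigenspace_eq_top _
  simp only [(h1 _).isFinitelySemisimple.maxGenEigenspace_eq_eigenspace] at h2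
  have h3 : ⊤ ≤ Submodule.span K {v | ∃ l : E → K, ∀ g, ρ g v = l g • v} :=
    h2.ge.trans (iSup_le fun l v hv => Submodule.subset_span ⟨l, by simpa using hv⟩)
  let b := Basis.ofSpan h3
  let b' := b.reindex (b.indexEquiv (finBasisOfFinrankEq K V hI |>.reindex
    (Fintype.equivFin I).symm))
  choose l hl using fun i => show ∃ l : E → K, ∀ g, ρ g (b' i) = l g • b' i from
    Basis.ofSpan_subset h3 ⟨_, (b.reindex_apply _ i).symm⟩
  exact ⟨b', fun i => MonoidHom.toHomUnits ⟨⟨l i, smul_left_injective K (b'.ne_zero i) (by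
    simp [← hl])⟩, fun x y => smul_left_injective K (b'.ne_zero i) (by
      simp only [← hl, map_mul, End.mul_apply]; rw [hl, map_smul, hl, smul_smul, mul_comm])⟩,
    fun g i => hl i g⟩

variable {E : Type*} [Group E] [Fintype E]

theorem sum_ker [DecidableEq K] (l : I → E →* Kˣ) :
    ∑ g, #{i | l i g = 1} = ∑ i, Nat.card (l i).ker := by
  simp only [card_filter, Nat.card_eq_fintype_card, Fintype.card_subtype, MonoidHom.mem_ker]
  exact sum_comm

theorem ker_card (l : E →* Kˣ) {m : ℕ} (h : ∀ g : E, g ^ m = 1) :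
    ∃ d, d ∣ m ∧ Nat.card l.ker * d = Nat.card E := by
  have : Finite l.range := Set.finite_range l
  refine ⟨_, ?_, l.ker.card_mul_index⟩
  rw [index_ker, ← IsCyclic.exponent_eq_card, Monoid.exponent_dvd_iff_forall_pow_eq_one]
  rintro ⟨_, g, rfl⟩
  exact Subtype.ext (by simp [← map_pow, h])

theorem sum_two [DecidableEq K] (l : I → E →* Kˣ) (h : ∀ g : E, g ^ 2 = 1) :
    ∃ k, 2 * ∑ g, #{i | l i g = 1} = Nat.card E * (Fintype.card I + k) := by
  choose k hk using fun i => show ∃ k, 2 * Nat.card (l i).ker = Nat.card E * (1 + k) by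
    obtain ⟨d, h1, h2⟩ := ker_card (l i) h
    rcases (Nat.dvd_prime Nat.prime_two).1 h1 with rfl | rfl
    exacts [⟨1, by omega⟩, ⟨0, by omega⟩]
  exact ⟨∑ i, k i, by
    rw [sum_ker, mul_sum, sum_congr rfl fun i _ => hk i, ← mul_sum, sum_add_distrib]; simp⟩

end Lin

section Lift

variable {X Q Q' : Type*} [Group X] [Group Q] [Group Q'] {φ : X →* Q}

theorem Min.comp (hm : Min φ) (e : Q ≃* Q') : Min (e.toMonoidHom.comp φ) :=
  ⟨e.surjective.comp hm.surj, fun Y hY => hm.min Y (Subgroup.map_injective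
    (f := e.toMonoidHom) e.injective (by
      rw [Subgroup.map_map, hY, map_top_of_surjective _ e.surjective]))⟩

variable [Finite X] (H : ∀ x, φ x = 1 → (∃ k, x ^ 2 ^ k = 1) → x = 1)
include H

theorem lift_two (hφ : Surjective φ) {E : Type*} [Group E] (h : ∀ g : E, g ^ 2 = 1) (e : E →* Q) :
    ∃ f : E →* X, ∀ g, φ (f g) = e g := by
  obtain ⟨P, hP⟩ := exists_sylIn 2 (e.range.comap φ)
  choose σ h1 h2 using fun g => (map_syl hφ hP (isPGroup_iff_mem.2 (by
    rintro _ ⟨v, rfl⟩; exact ⟨1, by rw [pow_one, ← map_pow, h, map_one]⟩))).ge ⟨g, rfl⟩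
  exact ⟨.mk' σ fun a b => inv_mul_eq_one.1 (H _ (by simp [h2]) (isPGroup_iff_mem.1 hP.pg _
    (mul_mem (inv_mem (h1 _)) (mul_mem (h1 a) (h1 b))))), h2⟩

theorem isConj_two (hφ : Surjective φ) {x y : X} (hx : x ^ 2 = 1) (hy : y ^ 2 = 1)
    (h : IsConj (φ x) (φ y)) : IsConj x y := by
  obtain ⟨g, hg⟩ := isConj_iff.1 h
  obtain ⟨g, rfl⟩ := hφ g
  refine (isConj_iff.2 ⟨g, rfl⟩).trans ?_
  replace hg : φ (g * x * g⁻¹) = φ y := by simpa using hg
  replace hx : (g * x * g⁻¹) ^ 2 = 1 := by rw [conj_pow, hx]; simp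
  generalize g * x * g⁻¹ = x at hx hg
  rw [sq] at hx hy
  obtain ⟨m, h1, h2⟩ := exists_pow_part Nat.prime_two (x * y)
  have h3 := H _ (by rw [map_pow, map_mul, hg, ← map_mul, hy, map_one, one_pow]) h2
  obtain ⟨k, rfl⟩ := Nat.coprime_two_right.1 h1
  have h4 : SemiconjBy x (x * y) (x * y)⁻¹ := by
    rw [SemiconjBy, ← mul_assoc, hx, _root_.mul_inv_rev, inv_mul_cancel_right, one_mul,
      inv_eq_of_mul_eq_one_right hy]
  refine isConj_iff.2 ⟨(x * y)⁻¹ ^ (k + 1), ?_⟩
  rw [← (h4.pow_right _).eq, inv_pow, inv_inv, mul_assoc, ← pow_add,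
    show k + 1 + (k + 1) = 2 * k + 1 + 1 by ring, pow_succ, h3, one_mul, ← mul_assoc, hx, one_mul]

end Lift

theorem isConj_alt {α : Type} [Fintype α] [DecidableEq α] {a b : alternatingGroup α}
    (ha : a ^ 2 = 1) (hb : b ^ 2 = 1) (h : a.1.support.card = b.1.support.card)
    (h' : a.1.support.card + 2 ≤ Fintype.card α) : IsConj a b := by
  refine alternatingGroup.isConj_of (isConj_of_cycleType_eq ?_) h'
  have H : ∀ {a : alternatingGroup α}, a ^ 2 = 1 →
      a.1.cycleType = Multiset.replicate (a.1.support.card / 2) 2 := fun {a} ha => by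
    have := Multiset.eq_replicate_card.2 fun n hn => (two_le_of_mem_cycleType hn).antisymm'
      (Nat.le_of_dvd two_pos ((dvd_of_mem_cycleType hn).trans
        (orderOf_dvd_of_pow_eq_one (x := a.1) (congrArg Subtype.val ha))))
    rw [← sum_cycleType, this]
    simp
  rw [H ha, H hb, h]

/-- Products of commuting involutions. -/
def hom2 {n : ℕ} (g : Fin n → Perm (Fin 12)) (v : Multiplicative (Fin n → ZMod 2)) :
    Perm (Fin 12) := (List.ofFn fun i => g i ^ (toAdd v i).val).prod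

theorem exists_cen_two {X Q : Type*} [Group X] [Finite X] [Group Q] [IsSimpleGroup Q] {φ : X →* Q}
    (hm : Min φ) {D : ℕ} (h1 : ∀ A : Subgroup X, (∀ a ∈ A, a ^ 2 = 1) → Nat.card A ∣ 2 ^ D * 3)
    (h2 : ∀ d ≤ D, ¬ Sec Q (GL (Fin d) (ZMod 2))) {x : X} (hx : φ x = 1) {k : ℕ}
    (hk : x ^ 2 ^ k = 1) (h0 : x ≠ 1) : ∃ z ∈ center X, z ≠ 1 ∧ z ^ 2 = 1 := by
  obtain ⟨P, h3, hP⟩ := exists_sylIn_ge (C := zpowers x) (B := φ.ker) (by simpa)
    (isPGroup_zpowers hk)
  have := hm.normal hP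
  have : Nontrivial P := ⟨⟨⟨x, h3 (mem_zpowers x)⟩, 1, fun e => h0 (congrArg Subtype.val e)⟩⟩
  have := hP.pg.center_nontrivial
  obtain ⟨z, hz⟩ := exists_prime_orderOf_dvd_card' 2
    (((hP.pg.to_subgroup (center P)).card_eq_or_dvd).resolve_left (Finite.one_lt_card).ne')
  let A : Subgroup X :=
    { carrier := {a | a ∈ P ∧ a ^ 2 = 1 ∧ ∀ y ∈ P, Commute a y}
      one_mem' := ⟨one_mem _, one_pow _, fun y _ => .one_left y⟩
      mul_mem' := fun h h' => ⟨mul_mem h.1 h'.1, by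
        rw [(h.2.2 _ h'.1).mul_pow, h.2.1, h'.2.1, one_mul],
        fun y hy => (h.2.2 y hy).mul_left (h'.2.2 y hy)⟩
      inv_mem' := fun h => ⟨inv_mem h.1, by rw [inv_pow, h.2.1, inv_one],
        fun y hy => (h.2.2 y hy).inv_left⟩ }
  have : A.Normal := ⟨fun a h g => ⟨Normal.conj_mem ‹_› a h.1 g, by rw [conj_pow, h.2.1]; simp,
    fun y hy => by simpa [mul_assoc] using
      (h.2.2 _ (Normal.conj_mem' ‹_› y hy g)).map (MulAut.conj g)⟩⟩
  have h4 : ∀ a : A, a ^ 2 = 1 := fun a => Subtype.ext a.2.2.1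
  obtain ⟨n, hn⟩ := IsPGroup.exists_card_eq (p := 2) (G := A) fun x => ⟨1, by rw [pow_one, h4]⟩
  have : IsMulCommutative A := ⟨⟨fun a b => Subtype.ext (a.2.2.2 b b.2.1)⟩⟩
  obtain ⟨f⟩ := Fgs2.nonempty_mulAut_equiv_GL h4 hn
  have h5 := hm.hom_eq_one (MulAut.conjNormal (H := A)) fun e => h2 n (by
    have := h1 A fun a ha => ha.2.1
    rwa [hn, Nat.Coprime.dvd_mul_right (Nat.Coprime.pow_left n (by decide)), Nat.pow_dvd_pow_iff_le_right one_lt_two] at this)
    (e.of_inj f.toMonoidHom f.injective)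
  have h6 : (z : X) ^ 2 = 1 := by
    rw [← hz, ← Subgroup.coe_pow, ← Subgroup.coe_pow, pow_orderOf_eq_one]; rfl
  refine ⟨z, mem_center_iff.2 fun g => mul_inv_eq_iff_eq_mul.1 (congrArg Subtype.val
    (DFunLike.congr_fun (h5 g) (⟨z, z.1.2, h6, fun y hy => (congrArg Subtype.val
      (mem_center_iff.1 z.2 ⟨y, hy⟩)).symm⟩ : A))), fun e => ?_, h6⟩
  rw [show z = 1 from Subtype.ext (Subtype.ext e), orderOf_one] at hz
  omega

end CF.ExA
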