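import Cfsg.Agent.ExA.E7

/-! The Weyl group of type `E₈`. -/

set_option autoImplicit false

namespace CF.ExA

open Matrix hiding zpow_mul one_zpow zpow_sub
open Subgroup Function CF.BN CF.Chev Finset Equiv Equiv.Perm Multiplicative Cfsg.Lie

/-- The basis of type `E₈`. -/
noncomputable def cE8 : ChevBasis (Fin 8) (Fin 240) := cbE8

local notation "a₀" => Int.ofNat (nat_lit 0)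
local notation "a₁" => Int.ofNat (nat_lit 1)
local notation "a₂" => Int.ofNat (nat_lit 2)
local notation "b₁" => Int.negSucc (nat_lit 0)
local notation "b₂" => Int.negSucc (nat_lit 1)

/-- The roots. -/
def w240 : List (List ℤ) :=
  [[a₂, a₀, b₁, a₀, a₀, a₀, a₀, a₀], [b₂, a₀, a₁, a₀, a₀, a₀, a₀, a₀], [a₁, a₀, a₁, b₁, a₀, a₀, a₀, a₀],
  [b₁, a₀, b₁, a₁, a₀, a₀, a₀, a₀], [b₁, a₀, a₂, b₁, a₀, a₀, a₀, a₀], [a₁, b₁, a₀, a₁, b₁, a₀, a₀, a₀],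
  [a₁, a₀, b₂, a₁, a₀, a₀, a₀, a₀], [b₁, a₁, a₀, b₁, a₁, a₀, a₀, a₀], [b₁, b₁, a₁, a₁, b₁, a₀, a₀, a₀],
  [a₁, a₁, a₀, a₀, b₁, a₀, a₀, a₀], [a₁, b₁, a₀, a₀, a₁, b₁, a₀, a₀], [a₁, a₁, b₁, b₁, a₁, a₀, a₀, a₀],
  [b₁, b₁, a₀, a₀, a₁, a₀, a₀, a₀], [b₁, a₁, a₀, a₀, b₁, a₁, a₀, a₀], [b₁, a₁, a₁, a₀, b₁, a₀, a₀, a₀],
  [a₀, b₁, b₁, a₂, b₁, a₀, a₀, a₀], [b₁, b₁, a₁, a₀, a₁, b₁, a₀, a₀], [a₁, a₁, a₀, b₁, a₁, b₁, a₀, a₀],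
  [a₁, b₁, a₀, a₀, a₀, a₁, b₁, a₀], [a₁, b₁, b₁, a₀, a₁, a₀, a₀, a₀], [a₀, a₁, a₁, b₂, a₁, a₀, a₀, a₀],
  [a₁, a₁, b₁, a₀, b₁, a₁, a₀, a₀], [b₁, b₁, a₀, a₁, b₁, a₁, a₀, a₀], [b₁, a₁, a₀, a₀, a₀, b₁, a₁, a₀],
  [a₀, a₁, b₁, a₁, b₁, a₀, a₀, a₀], [b₁, a₁, a₁, b₁, a₁, b₁, a₀, a₀], [a₀, b₁, b₁, a₁, a₁, b₁, a₀, a₀],
  [b₁, b₁, a₁, a₀, a₀, a₁, b₁, a₀], [a₁, a₀, b₁, a₁, a₀, b₁, a₀, a₀], [a₁, a₁, a₀, b₁, a₀, a₁, b₁, a₀],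
  [a₁, b₁, a₀, a₀, a₀, a₀, a₁, b₁], [a₀, b₁, a₁, b₁, a₁, a₀, a₀, a₀], [a₁, b₁, b₁, a₁, b₁, a₁, a₀, a₀],
  [a₀, a₁, a₁, b₁, b₁, a₁, a₀, a₀], [a₁, a₁, b₁, a₀, a₀, b₁, a₁, a₀], [b₁, a₀, a₁, b₁, a₀, a₁, a₀, a₀],
  [b₁, b₁, a₀, a₁, a₀, b₁, a₁, a₀], [b₁, a₁, a₀, a₀, a₀, a₀, b₁, a₁], [a₀, a₂, a₀, b₁, a₀, a₀, a₀, a₀],
  [a₀, a₁, b₁, a₀, a₁, b₁, a₀, a₀], [b₁, a₀, a₀, a₁, a₀, b₁, a₀, a₀], [b₁, a₁, a₁, b₁, a₀, a₁, b₁, a₀],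
  [a₀, a₀, a₀, b₁, a₂, b₁, a₀, a₀], [a₀, b₁, b₁, a₁, a₀, a₁, b₁, a₀], [b₁, b₁, a₁, a₀, a₀, a₀, a₁, b₁],
  [a₀, a₀, a₁, a₀, a₀, b₁, a₀, a₀], [a₁, a₀, b₁, a₁, b₁, a₁, b₁, a₀], [a₁, a₁, a₀, b₁, a₀, a₀, a₁, b₁],
  [a₁, b₁, a₀, a₀, a₀, a₀, a₀, a₁], [a₀, b₂, a₀, a₁, a₀, a₀, a₀, a₀], [a₀, b₁, a₁, a₀, b₁, a₁, a₀, a₀],
  [a₁, a₀, a₀, b₁, a₀, a₁, a₀, a₀], [a₁, b₁, b₁, a₁, a₀, b₁, a₁, a₀], [a₀, a₀, a₀, a₁, b₂, a₁, a₀, a₀],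
  [a₀, a₁, a₁, b₁, a₀, b₁, a₁, a₀], [a₁, a₁, b₁, a₀, a₀, a₀, b₁, a₁], [a₀, a₀, b₁, a₀, a₀, a₁, a₀, a₀],
  [b₁, a₀, a₁, b₁, a₁, b₁, a₁, a₀], [b₁, b₁, a₀, a₁, a₀, a₀, b₁, a₁], [b₁, a₁, a₀, a₀, a₀, a₀, a₀, b₁],
  [a₀, a₁, b₁, a₀, a₀, a₁, b₁, a₀], [b₁, a₀, a₀, a₁, b₁, a₁, b₁, a₀], [b₁, a₁, a₁, b₁, a₀, a₀, a₁, b₁],
  [a₀, a₀, a₀, b₁, a₁, a₁, b₁, a₀], [a₀, b₁, b₁, a₁, a₀, a₀, a₁, b₁], [b₁, b₁, a₁, a₀, a₀, a₀, a₀, a₁],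
  [a₀, a₀, a₁, a₀, b₁, a₁, b₁, a₀], [a₁, a₀, b₁, a₀, a₁, a₀, b₁, a₀], [a₁, a₀, b₁, a₁, b₁, a₀, a₁, b₁],
  [a₁, a₁, a₀, b₁, a₀, a₀, a₀, a₁], [a₀, b₁, a₁, a₀, a₀, b₁, a₁, a₀], [a₁, a₀, a₀, b₁, a₁, b₁, a₁, a₀],
  [a₁, b₁, b₁, a₁, a₀, a₀, b₁, a₁], [a₀, a₀, a₀, a₁, b₁, b₁, a₁, a₀], [a₀, a₁, a₁, b₁, a₀, a₀, b₁, a₁],
  [a₁, a₁, b₁, a₀, a₀, a₀, a₀, b₁], [a₀, a₀, b₁, a₀, a₁, b₁, a₁, a₀], [b₁, a₀, a₁, a₀, b₁, a₀, a₁, a₀],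
  [b₁, a₀, a₁, b₁, a₁, a₀, b₁, a₁], [b₁, b₁, a₀, a₁, a₀, a₀, a₀, b₁], [a₀, a₁, b₁, a₀, a₀, a₀, a₁, b₁],
  [b₁, a₀, a₀, a₀, a₁, a₀, b₁, a₀], [b₁, a₀, a₀, a₁, b₁, a₀, a₁, b₁], [b₁, a₁, a₁, b₁, a₀, a₀, a₀, a₁],
  [a₀, a₀, a₀, a₀, b₁, a₂, b₁, a₀], [a₀, a₀, a₀, b₁, a₁, a₀, a₁, b₁], [a₀, b₁, b₁, a₁, a₀, a₀, a₀, a₁],
  [a₀, a₀, a₁, b₁, a₁, a₀, b₁, a₀], [a₀, a₀, a₁, a₀, b₁, a₀, a₁, b₁], [a₁, a₀, b₁, a₀, a₁, b₁, a₁, b₁],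
  [a₁, a₀, b₁, a₁, b₁, a₀, a₀, a₁], [a₀, b₁, a₁, a₀, a₀, a₀, b₁, a₁], [a₁, a₀, a₀, a₀, b₁, a₀, a₁, a₀],
  [a₁, a₀, a₀, b₁, a₁, a₀, b₁, a₁], [a₁, b₁, b₁, a₁, a₀, a₀, a₀, b₁], [a₀, a₀, a₀, a₀, a₁, b₂, a₁, a₀],
  [a₀, a₀, a₀, a₁, b₁, a₀, b₁, a₁], [a₀, a₁, a₁, b₁, a₀, a₀, a₀, b₁], [a₀, a₀, b₁, a₁, b₁, a₀, a₁, a₀],
  [a₀, a₀, b₁, a₀, a₁, a₀, b₁, a₁], [b₁, a₀, a₁, a₀, b₁, a₁, b₁, a₁], [b₁, a₀, a₁, b₁, a₁, a₀, a₀, b₁],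
  [a₀, a₁, b₁, a₀, a₀, a₀, a₀, a₁], [b₁, a₀, a₀, a₀, a₁, b₁, a₁, b₁], [b₁, a₀, a₀, a₁, b₁, a₀, a₀, a₁],
  [a₀, a₀, a₀, a₀, b₁, a₁, a₁, b₁], [a₀, a₀, a₀, b₁, a₁, a₀, a₀, a₁], [a₀, b₁, a₀, a₁, a₀, a₀, b₁, a₀],
  [a₀, a₀, a₁, b₁, a₁, b₁, a₁, b₁], [a₀, a₀, a₁, a₀, b₁, a₀, a₀, a₁], [a₁, a₀, b₁, a₀, a₀, a₁, a₀, b₁],
  [a₁, a₀, b₁, a₀, a₁, b₁, a₀, a₁], [a₀, b₁, a₁, a₀, a₀, a₀, a₀, b₁], [a₁, a₀, a₀, a₀, b₁, a₁, b₁, a₁],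
  [a₁, a₀, a₀, b₁, a₁, a₀, a₀, b₁], [a₀, a₀, a₀, a₀, a₁, b₁, b₁, a₁], [a₀, a₀, a₀, a₁, b₁, a₀, a₀, b₁],
  [a₀, a₁, a₀, b₁, a₀, a₀, a₁, a₀], [a₀, a₀, b₁, a₁, b₁, a₁, b₁, a₁], [a₀, a₀, b₁, a₀, a₁, a₀, a₀, b₁],
  [b₁, a₀, a₁, a₀, a₀, b₁, a₀, a₁], [b₁, a₀, a₁, a₀, b₁, a₁, a₀, b₁], [b₁, a₀, a₀, a₀, a₀, a₁, a₀, b₁],
  [b₁, a₀, a₀, a₀, a₁, b₁, a₀, a₁], [a₀, a₀, a₀, a₀, a₀, b₁, a₂, b₁], [a₀, a₀, a₀, a₀, b₁, a₁, a₀, a₁],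
  [a₀, a₁, a₀, a₀, a₀, a₀, b₁, a₀], [a₀, b₁, a₀, a₁, a₀, b₁, a₁, b₁], [a₀, a₀, a₁, b₁, a₀, a₁, a₀, b₁],
  [a₀, a₀, a₁, b₁, a₁, b₁, a₀, a₁], [a₁, a₀, b₁, a₀, a₀, a₁, b₁, a₁], [a₁, a₀, a₀, a₀, a₀, b₁, a₀, a₁],
  [a₁, a₀, a₀, a₀, b₁, a₁, a₀, b₁], [a₀, a₀, a₀, a₀, a₀, a₁, b₂, a₁], [a₀, a₀, a₀, a₀, a₁, b₁, a₀, b₁],
  [a₀, b₁, a₀, a₀, a₀, a₀, a₁, a₀], [a₀, a₁, a₀, b₁, a₀, a₁, b₁, a₁], [a₀, a₀, b₁, a₁, a₀, b₁, a₀, a₁],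
  [a₀, a₀, b₁, a₁, b₁, a₁, a₀, b₁], [b₁, a₀, a₁, a₀, a₀, b₁, a₁, b₁], [b₁, a₀, a₀, a₀, a₀, a₁, b₁, a₁],
  [a₀, a₀, a₀, a₀, a₀, b₁, a₁, a₁], [a₀, a₁, a₀, a₀, a₀, b₁, a₁, b₁], [a₀, b₁, a₀, a₁, b₁, a₁, a₀, b₁],
  [a₀, b₁, a₀, a₁, a₀, b₁, a₀, a₁], [a₀, a₀, a₁, b₁, a₀, a₁, b₁, a₁], [a₁, a₀, b₁, a₀, a₀, a₀, a₁, a₀],
  [a₁, a₀, a₀, a₀, a₀, b₁, a₁, b₁], [a₀, a₀, a₀, a₀, a₀, a₁, b₁, b₁], [a₀, b₁, a₀, a₀, a₀, a₁, b₁, a₁],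
  [a₀, a₁, a₀, b₁, a₁, b₁, a₀, a₁], [a₀, a₁, a₀, b₁, a₀, a₁, a₀, b₁], [a₀, a₀, b₁, a₁, a₀, b₁, a₁, b₁],
  [b₁, a₀, a₁, a₀, a₀, a₀, b₁, a₀], [b₁, a₀, a₀, a₀, a₀, a₀, a₁, a₀], [a₀, a₀, a₀, a₀, a₀, a₀, b₁, a₂],
  [a₀, a₁, a₀, a₀, b₁, a₁, a₀, b₁], [a₀, a₁, a₀, a₀, a₀, b₁, a₀, a₁], [a₀, b₁, a₀, a₀, a₁, a₀, a₀, b₁],
  [a₀, b₁, a₀, a₁, b₁, a₁, b₁, a₁], [a₀, a₀, a₁, b₁, a₀, a₀, a₁, a₀], [a₁, a₀, a₀, a₀, a₀, a₀, b₁, a₀],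
  [a₀, a₀, a₀, a₀, a₀, a₀, a₁, b₂], [a₀, b₁, a₀, a₀, a₁, b₁, a₀, a₁], [a₀, b₁, a₀, a₀, a₀, a₁, a₀, b₁],
  [a₀, a₁, a₀, a₀, b₁, a₀, a₀, a₁], [a₀, a₁, a₀, b₁, a₁, b₁, a₁, b₁], [a₀, a₀, b₁, a₁, a₀, a₀, b₁, a₀],
  [a₀, a₁, a₀, b₁, a₁, a₀, a₀, b₁], [a₀, a₁, a₀, a₀, b₁, a₁, b₁, a₁], [a₀, b₁, a₀, a₀, a₁, a₀, b₁, a₁],
  [a₀, b₁, a₀, a₁, b₁, a₀, a₁, a₀], [a₀, b₁, a₀, a₁, b₁, a₀, a₀, a₁], [a₀, b₁, a₀, a₀, a₁, b₁, a₁, b₁],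
  [a₀, a₁, a₀, a₀, b₁, a₀, a₁, b₁], [a₀, a₁, a₀, b₁, a₁, a₀, b₁, a₀], [a₀, a₀, b₁, a₁, a₀, a₀, a₀, b₁],
  [a₀, a₁, a₀, b₁, a₁, a₀, b₁, a₁], [a₀, a₁, a₀, a₀, b₁, a₀, a₁, a₀], [a₀, b₁, a₀, a₀, a₁, b₁, a₁, a₀],
  [a₀, a₀, a₁, b₁, a₀, a₀, a₀, a₁], [a₀, b₁, a₀, a₁, b₁, a₀, a₁, b₁], [a₀, b₁, a₀, a₀, a₁, a₀, b₁, a₀],
  [a₀, a₁, a₀, a₀, b₁, a₁, b₁, a₀], [b₁, a₀, a₁, a₀, a₀, a₀, a₀, b₁], [a₀, a₀, b₁, a₁, a₀, a₀, b₁, a₁],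
  [a₀, a₁, a₀, b₁, a₁, b₁, a₁, a₀], [a₀, b₁, a₀, a₀, a₀, a₁, a₀, a₀], [a₁, a₀, b₁, a₀, a₀, a₀, a₀, a₁],
  [a₀, a₀, a₁, b₁, a₀, a₀, a₁, b₁], [a₀, b₁, a₀, a₁, b₁, a₁, b₁, a₀], [a₀, a₁, a₀, a₀, a₀, b₁, a₀, a₀],
  [a₁, a₀, a₀, a₀, a₀, a₀, a₀, b₁], [b₁, a₀, a₁, a₀, a₀, a₀, b₁, a₁], [a₀, a₀, b₁, a₁, a₀, b₁, a₁, a₀],
  [a₀, a₁, a₀, b₁, a₀, a₁, a₀, a₀], [b₁, a₀, a₀, a₀, a₀, a₀, a₀, a₁], [a₁, a₀, b₁, a₀, a₀, a₀, a₁, b₁],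
  [a₀, a₀, a₁, b₁, a₀, a₁, b₁, a₀], [a₀, b₁, a₀, a₁, a₀, b₁, a₀, a₀], [a₁, a₀, a₀, a₀, a₀, a₀, b₁, a₁],
  [b₁, a₀, a₁, a₀, a₀, b₁, a₁, a₀], [a₀, a₀, b₁, a₁, b₁, a₁, a₀, a₀], [b₁, a₀, a₀, a₀, a₀, a₀, a₁, b₁],
  [a₁, a₀, b₁, a₀, a₀, a₁, b₁, a₀], [a₀, a₀, a₁, b₁, a₁, b₁, a₀, a₀], [a₁, a₀, a₀, a₀, a₀, b₁, a₁, a₀],
  [b₁, a₀, a₁, a₀, b₁, a₁, a₀, a₀], [a₀, a₀, b₁, a₀, a₁, a₀, a₀, a₀], [b₁, a₀, a₀, a₀, a₀, a₁, b₁, a₀],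
  [a₁, a₀, b₁, a₀, a₁, b₁, a₀, a₀], [a₀, a₀, a₁, a₀, b₁, a₀, a₀, a₀], [a₁, a₀, a₀, a₀, b₁, a₁, a₀, a₀],
  [b₁, a₀, a₁, b₁, a₁, a₀, a₀, a₀], [b₁, a₀, a₀, a₀, a₁, b₁, a₀, a₀], [a₁, a₀, b₁, a₁, b₁, a₀, a₀, a₀],
  [a₁, a₀, a₀, b₁, a₁, a₀, a₀, a₀], [b₁, b₁, a₀, a₁, a₀, a₀, a₀, a₀], [b₁, a₀, a₀, a₁, b₁, a₀, a₀, a₀],
  [a₁, a₁, a₀, b₁, a₀, a₀, a₀, a₀], [a₁, b₁, b₁, a₁, a₀, a₀, a₀, a₀], [b₁, a₁, a₀, a₀, a₀, a₀, a₀, a₀],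
  [b₁, a₁, a₁, b₁, a₀, a₀, a₀, a₀], [a₁, b₁, a₀, a₀, a₀, a₀, a₀, a₀], [a₁, a₁, b₁, a₀, a₀, a₀, a₀, a₀],
  [a₀, b₁, a₁, a₀, a₀, a₀, a₀, a₀], [b₁, b₁, a₁, a₀, a₀, a₀, a₀, a₀], [a₀, a₁, b₁, a₀, a₀, a₀, a₀, a₀],
  [a₀, a₁, a₁, b₁, a₀, a₀, a₀, a₀], [a₀, b₁, b₁, a₁, a₀, a₀, a₀, a₀], [a₀, a₀, a₀, a₁, b₁, a₀, a₀, a₀],
  [a₀, a₀, a₀, b₁, a₁, a₀, a₀, a₀], [a₀, a₀, a₀, a₀, a₁, b₁, a₀, a₀], [a₀, a₀, a₀, a₀, b₁, a₁, a₀, a₀],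
  [a₀, a₀, a₀, a₀, a₀, a₁, b₁, a₀], [a₀, a₀, a₀, a₀, a₀, b₁, a₁, a₀], [a₀, a₀, a₀, a₀, a₀, a₀, a₁, b₁],
  [a₀, a₀, a₀, a₀, a₀, a₀, b₁, a₁], [a₀, a₀, a₀, a₀, a₀, a₀, a₀, a₁], [a₀, a₀, a₀, a₀, a₀, a₀, a₀, b₁]]

/-- The inverse of the Cartan matrix. -/
def adE8 : List (List ℤ) :=
  [[4, 5, 7, 10, 8, 6, 4, 2], [5, 8, 10, 15, 12, 9, 6, 3], [7, 10, 14, 20, 16, 12, 8, 4],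
  [10, 15, 20, 30, 24, 18, 12, 6], [8, 12, 16, 24, 20, 15, 10, 5], [6, 9, 12, 18, 15, 12, 8, 4],
  [4, 6, 8, 12, 10, 8, 6, 3], [2, 3, 4, 6, 5, 4, 3, 2]]

theorem winv_w240 : WInv cE8 (wts 8 w240) := winv_wts carE8 (by decide +kernel)

theorem alcE8 : ([2, 3, 4, 6, 5, 4, 3, 2].length = 8 ∧ ∀ x ∈ [2, 3, 4, 6, 5, 4, 3, 2], 0 < x) ∧
    adE8.length = 8 ∧ (1 : ℤ) ≠ 0 ∧ (∀ i, cE8.vec 239 i = ([2, 3, 4, 6, 5, 4, 3, 2].getD i 0 : ℕ)) ∧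
      ∀ k j : Fin 8, ∑ i : Fin 8, gd cmE8 j i * gd adE8 k i = if j = k then 1 else 0 := by
  decide +kernel

/-- The invariant quadratic form. -/
def qE {R : Type*} [CommRing R] (y : Fin 8 → R) : R :=
  y 0 * (y 0 - y 2) + y 1 * (y 1 - y 3) + y 2 * (y 2 - y 3) + y 3 * (y 3 - y 4) + y 4 * (y 4 - y 5) +
    y 5 * (y 5 - y 6) + y 6 * (y 6 - y 7) + y 7 * y 7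

theorem qE_Mz {m : ℕ} {w : Perm (Fin 240)} (hw : w ∈ cE8.W) (y : Fin 8 → ZMod m) :
    qE (Mz cE8 m w *ᵥ y) = qE y := by
  have hc : ∀ i j : Fin 8, cE8.car i j = gd cmE8 i j := carE8
  refine W_ind (P := fun M => ∀ y : Fin 8 → ZMod m, qE (M.map (↑) *ᵥ y) = qE y)
    (fun u => by rw [Matrix.map_one _ (by simp) (by simp)]; simp) (fun M N h h' u => ?_)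
    (fun i u => ?_) hw y
  · rw [show (M * N).map ((↑) : ℤ → ZMod m) = M.map (↑) * N.map (↑) from
      Matrix.map_mul (f := Int.castRingHom _), ← mulVec_mulVec, h, h']
  · fin_cases i <;> simp [map_sref_mulVec, qE, Fin.sum_univ_eight, hc, gd, cmE8] <;> ring

theorem qE_cast {m : ℕ} (x : Fin 8 → ℤ) : qE (fun i => (x i : ZMod m)) = (qE x : ℤ) := by simp [qE]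

theorem fn_ofFn {l : ℕ} (x : Fin l → ℤ) : fn l (List.ofFn x) = x := funext fun i => by simp [fn]

theorem chk17 : allAlc [2, 3, 4, 6, 5, 4, 3, 2] 17 (trA adE8 1 fun _ x => qE (fn 8 x) % 17 != 0 ||
    x.all (· % 17 == 0) || forceL (x.map (3 * ·)) (hsL w240 17 (256 ^ ·)) !=
      hsL w240 17 (256 ^ ·) x) := by decide +kernel

theorem rat17 {y : Fin 8 → ZMod 17} (e : ∃ w ∈ cE8.W, Mz cE8 17 w *ᵥ y = 3 • y) : y = 0 := by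
  obtain ⟨w, hw, x, s, h1, -, h3⟩ := alcove (C := cE8) carE8 239 alcE8 chk17 y
  obtain ⟨w', hw', e⟩ := e
  simp only [Bool.or_eq_true, List.all_eq_true, List.forall_mem_ofFn_iff, beq_iff_eq, bne_iff_ne,
    forceL_eq, List.map_ofFn, ← hs_wts, fn_ofFn] at h3
  rcases h3 with (h | h) | h
  · refine absurd (Int.emod_eq_zero_of_dvd ((ZMod.intCast_zmod_eq_zero_iff_dvd _ 17).1 ?_)) h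
    have := qE_Mz hw' y
    rw [← qE_cast, ← h1, qE_Mz hw]
    refine (by decide : ∀ a : ZMod 17, 9 * a = a → a = 0) _ (Eq.trans ?_ (e ▸ this))
    simp only [qE, Pi.smul_apply, nsmul_eq_mul]
    push_cast; ring
  · rw [← Mz_inv hw y, h1, show (fun i => (x i : ZMod 17)) = 0 from funext fun i =>
      (ZMod.intCast_zmod_eq_zero_iff_dvd _ _).2 (Int.dvd_of_emod_eq_zero (h i)), mulVec_zero]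
  · refine absurd ?_ h
    rw [← h1, winv_w240.hs hw, ← winv_w240.hs hw' _ y, e, ← winv_w240.hs hw _ (3 • y),
      mulVec_smul, h1]
    congr 1
    funext i
    simp

end CF.ExA
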