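import Cfsg.Agent.ExA.E7

/-! Frames for toral subgroups and centralizers of families of torus elements. -/

set_option autoImplicit false

namespace CF.ExA

open Matrix hiding zpow_mul one_zpow zpow_sub
open Subgroup Function CF.BN CF.Chev Finset Equiv Equiv.Perm CF.Fus

section Fin

variable {Q X A : Type*} [Group Q] [Group X] [Group A] {π : X →* Q} {ℓ : ℕ}

theorem Cen.comm_cyc (hc : Cen ℓ π) {P : Subgroup X} (hP : IsPGroup ℓ P) {a : Q}
    (h : P ≤ (zpowers a).comap π) : ∀ x ∈ P, ∀ y ∈ P, Commute x y := fun x hx y hy =>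
  congrArg Subtype.val (commutative_of_cyclic_center_quotient
    ((π.comp P.subtype).codRestrict (zpowers a) fun x => h x.2) (fun z hz =>
      mem_center_iff.2 fun g => Subtype.ext (mem_center_iff.1 (hc z (congrArg Subtype.val hz)
        (isPGroup_iff_mem.1 hP _ z.2)) g)) ⟨x, hx⟩ ⟨y, hy⟩)

variable [Finite X] [Fact ℓ.Prime]

theorem Cen.exists_eig [Finite Q] (hc : Cen ℓ π) {M : Subgroup X} {a g : Q} (ha : orderOf a = ℓ)
    {k : ℕ} (hg : g * a * g⁻¹ = a ^ k) (h1 : a ∈ M.map π) (h2 : g ∈ M.map π) :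
    ∃ x ∈ M, ∃ y ∈ M, orderOf x = ℓ ∧ y * x * y⁻¹ = x ^ k := by
  obtain ⟨P, hP⟩ := exists_sylIn ℓ ((zpowers a).comap π ⊓ M)
  obtain ⟨b, hb, rfl⟩ := h1
  obtain ⟨y, hy, rfl⟩ := h2
  obtain ⟨y, hy, e⟩ := exists_norm' hP (isPGroup_zpowers (k := 1) (by rw [← ha]; simp))
    hy (norm_zpowers hg)
  obtain ⟨x, hx, h⟩ := exists_eig' ha hg hP hb rfl hy.1 e
    (hc.comm_cyc hP.pg (hP.le.trans inf_le_left))
  exact ⟨x, (hP.le hx).2, y, hy.2, h⟩

theorem Cen.map_eq_one (hc : Cen ℓ π) (hℓ : Odd ℓ) {M : Subgroup X} {D : Subgroup Q}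
    [IsSimpleGroup D] (hD : D ≤ M.map π) (ρ : M →* A) (hρ : ¬ Sec D A) {a y : M} (ha : π a ∈ D)
    (h1 : a ^ ℓ = 1) (h2 : y * a * y⁻¹ = a⁻¹) : ρ a = 1 := by
  let N := D.comap (π.comp M.subtype)
  let φ : N →* D := ((π.comp M.subtype).comp N.subtype).codRestrict D fun x => x.2
  have h3 : Surjective φ := fun d => by
    obtain ⟨x, hx, e⟩ := hD d.2
    exact ⟨⟨⟨x, hx⟩, show π x ∈ D from e ▸ d.2⟩, Subtype.ext e⟩
  obtain ⟨k, hk, e⟩ := ((((ρ.comp N.subtype).normal_ker.map φ h3).eq_bot_or_eq_top).resolve_left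
    fun e => hρ (sec_of_ker h3 _ ((Subgroup.map_eq_bot_iff _).1 e))).ge (mem_top (φ ⟨a, ha⟩))
  have h4 : π (k.1⁻¹ * a : M) = 1 := by
    rw [Subgroup.coe_mul, map_mul, show π a = π k from (congrArg Subtype.val e).symm]
    simp
  have h5 : ρ (k.1⁻¹ * a) = ρ a := by rw [map_mul, map_inv, show ρ k = 1 from hk]; simp
  generalize k.1⁻¹ * a = z at h4 h5
  obtain ⟨m, hm, j, hj⟩ := exists_pow_part (Fact.out : ℓ.Prime) (z : X)
  have h6 : y * z ^ m * y⁻¹ = z ^ m := Subtype.ext (mul_inv_eq_iff_eq_mul.2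
    (mem_center_iff.1 (hc _ (by rw [map_pow, h4, one_pow]) ⟨j, hj⟩) y))
  have h7 := congrArg ρ h6
  rw [← conj_pow, map_pow, map_pow, map_mul, map_mul, h5, ← map_mul, ← map_mul, h2, map_inv,
    inv_pow, inv_eq_iff_mul_eq_one, ← pow_two, ← pow_mul] at h7
  exact eq_one_of_cop (k := 1) (hm.mul_left (Nat.coprime_two_left.2 hℓ)) h7
    (by rw [pow_one, ← map_pow, h1, map_one])

omit [Finite X] [Fact ℓ.Prime] in
theorem exists_zpow_mul {c d : X} {m n : ℕ} (e : Commute c d) (hc : c ^ m = 1) (hd : d ^ n = 1)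
    (hmn : m.Coprime n) : ∃ k : ℤ, (c * d) ^ k = c := by
  obtain ⟨i, j, hij⟩ := Nat.isCoprime_iff_coprime.2 hmn
  refine ⟨j * n, ?_⟩
  rw [e.mul_zpow, mul_comm j, zpow_mul d, zpow_natCast, hd, one_zpow, mul_one, mul_comm,
    eq_sub_of_add_eq' hij, zpow_sub, mul_comm i, zpow_mul, zpow_natCast, hc]
  simp

end Fin

variable {B ι : Type} [Fintype B] [DecidableEq B] [Fintype ι] [DecidableEq ι]
  {C : ChevBasis B ι} {K : Type*} [Field K] {G : Type*} [Group G] {ρ : StRep C K G}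

theorem rv_pow (c : B → Kˣ) (n : ℕ) (r : ι) : rv C (c ^ n) r = rv C c r ^ n := by
  induction' n with n ih
  · simp [rv_eq]
  · rw [pow_succ, rv_mul, ih, pow_succ]

theorem rv_ψ {m : ℕ} (ψ : AddChar (ZMod m) Kˣ) (y : B → ZMod m) (r : ι) :
    rv C (fun i => ψ (y i)) r = ψ (dz y fun i => C.A (C.simple i) r) := by
  simp only [rv_eq, ← AddChar.map_zsmul_eq_zpow, zsmul_eq_mul, dz, mul_comm (y _)]
  exact (map_prod ψ.toMonoidHom (fun j => .ofAdd ((C.A (C.simple j) r : ZMod m) * y j)) _).symm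

theorem exists_Wz (h : Univ ρ) (g : G) : ∃ w ∈ C.W, ∀ {m : ℕ} {ψ : AddChar (ZMod m) Kˣ},
    Injective ψ → ∀ y y', g * h.r3.tor (fun i => ψ (y i)) * g⁻¹ = h.r3.tor (fun i => ψ (y' i)) →
      Mz C m w *ᵥ y = y' := by
  obtain ⟨w, hw, h1⟩ := exists_W h g
  exact ⟨w, hw, fun hψ y y' e => funext fun i =>
    hψ (congrFun ((mp_ψ _ _ _).symm.trans (h1 _ _ e)) i)⟩

theorem cent_act (h : Univ ρ) {T : Set (B → Kˣ)} {g : G} (hg : ∀ c ∈ T, Commute g (h.r3.tor c)) :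
    ∃ w ∈ C.W, (∀ c ∈ T, mp (Mw C w) c = c) ∧ ∀ c', (∀ r, (∀ c ∈ T, rv C c r = 1) → rv C c' r = 1) →
      g * h.r3.tor c' * g⁻¹ = h.r3.tor (mp (Mw C w) c') := by
  obtain ⟨w, u, hu, n, hn, u', hu', rfl⟩ := exists_unu h.top g
  have h1 := fun c hc => conj_H_decomp h.faith hu hn hu' (tor_mem_H h.r3 c) (tor_mem_H h.r3 c)
    (hg c hc).mul_inv_cancel
  have h2 : ∀ c ∈ T, mp (Mw C w) c = c := fun c hc =>
    h.inj (by rw [← conj_tor h.r3 hn.acts, (h1 c hc).2.1])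
  refine ⟨w, hn.mem_W, h2, fun c' H => ?_⟩
  have h3 := commute_tor_U h.r3 (c := c') (ρ.U_mono (fun r hr => H r hr.2) (mem_U_of_conj h.faith
    h.r3 (C.closed_pos_neg hn.mem_Aut) (fun _ h => h.1) hu' fun c hc => (h1 c hc).2.2))
  have h4 := commute_tor_U h.r3 (c := mp (Mw C w) c') (ρ.U_mono (fun r hr => by
    obtain ⟨r, rfl⟩ := w.surjective r
    exact (rv_Mw hn.mem_Aut _ _).trans (H r fun c hc => by
      rw [← rv_Mw hn.mem_Aut, h2 c hc, hr.2 c hc])) (mem_U_of_conj h.faith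
    h.r3 C.closed_pos (fun _ h => h) hu fun c hc => (h1 c hc).1))
  rw [← h4.mul_inv_cancel, ← conj_tor h.r3 hn.acts]
  nth_rewrite 2 [← h3.mul_inv_cancel]
  group

variable (C) in
/-- The elements of exponent `m` in the centre of a subsystem subgroup. -/
def Zc (T : Set (B → Kˣ)) (m : ℕ) : Subgroup (B → Kˣ) where
  carrier := {c' | c' ^ m = 1 ∧ ∀ r, (∀ c ∈ T, rv C c r = 1) → rv C c' r = 1}
  one_mem' := ⟨one_pow m, fun r _ => by simp [rv_eq]⟩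
  mul_mem' h h' := ⟨by rw [mul_pow, h.1, h'.1, mul_one], fun r H => by
    rw [rv_mul, h.2 r H, h'.2 r H, mul_one]⟩
  inv_mem' h := ⟨by rw [inv_pow, h.1, inv_one], fun r H => by rw [rv_inv, h.2 r H, inv_one]⟩

theorem mem_norm_Zc (h : Univ ρ) {T : Set (B → Kˣ)} {m : ℕ} (hm : 0 < m) {g : G}
    (hg : ∀ c ∈ T, Commute g (h.r3.tor c)) :
    g ∈ normalizer ((Zc C T m).map h.r3.tor : Set G) := by
  have : Finite {c : B → Kˣ | c ^ m = 1} := (card_tor_le (B := B) (K := K) hm).1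
  have : Finite ((Zc C T m).map h.r3.tor : Set G) :=
    ((Set.toFinite {c : B → Kˣ | c ^ m = 1}).subset fun _ h => h.1).image _
  obtain ⟨w, hw, h1, h2⟩ := cent_act h hg
  refine mem_normalizer_fintype ?_
  rintro _ ⟨c, hc, rfl⟩
  refine ⟨_, ⟨by rw [← map_pow, hc.1, map_one], fun r H => ?_⟩, (h2 c hc.2).symm⟩
  obtain ⟨r, rfl⟩ := w.surjective r
  exact (rv_Mw (C.W_le_Aut hw) _ _).trans (hc.2 r fun c hc => by
    rw [← rv_Mw (C.W_le_Aut hw), h1 c hc, H c hc])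

theorem not_sec_Zc (h : Univ ρ) {d : ℕ} (hC : C.Cen 0 d) {T : Set (B → Kˣ)} {m : ℕ} [Fact m.Prime]
    {Q : Type*} [Group Q] {J : Type} [Fintype J] [DecidableEq J] (e : J → B)
    (H : ∀ i, i ∈ Set.range e ∨ ∀ c ∈ T, rv C c (C.simple i) = 1)
    (H' : ∀ d ≤ Fintype.card J, ¬ Sec Q (GL (Fin d) (ZMod m))) :
    ¬ Sec Q (MulAut ((Zc C T m).map h.r3.tor)) := fun hs => by
  have hm : m.Prime := Fact.out
  obtain ⟨h1, h2⟩ := card_tor_le (B := J) (K := K) hm.pos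
  let φ : Zc C T m → {c : J → Kˣ // c ^ m = 1} := fun c => ⟨fun j => rv C c (C.simple (e j)),
    funext fun j => (rv_pow _ _ _).symm.trans (by simp [c.2.1, rv_eq])⟩
  have h3 : Injective φ := fun a b hab => by
    rw [← inv_mul_eq_one, Subtype.ext_iff]
    refine (hC.ker_eq_bot K).le (C.char_eq_one_of_simple fun i => ?_)
    refine (H i).elim ?_ ((a⁻¹ * b).2.2 _)
    rintro ⟨j, rfl⟩
    exact (rv_mul _ _ _).trans (by
      rw [Subgroup.coe_inv, rv_inv, inv_mul_eq_one]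
      exact congrFun (congrArg Subtype.val hab) j)
  have := Finite.of_injective φ h3
  let ε := (Zc C T m).equivMapOfInjective _ h.inj
  have := Finite.of_equiv _ ε.toEquiv
  have h4 : ∀ x : (Zc C T m).map h.r3.tor, x ^ m = 1 := by
    rintro ⟨_, c, hc, rfl⟩
    exact Subtype.ext (by rw [Subgroup.coe_pow, ← map_pow, hc.1, map_one]; rfl)
  obtain ⟨n, hn⟩ := IsPGroup.exists_card_eq (p := m) (G := (Zc C T m).map h.r3.tor)
    fun x => ⟨1, by rw [pow_one, h4]⟩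
  obtain ⟨f⟩ := Fgs2.nonempty_mulAut_equiv_GL h4 hn
  refine H' n ?_ (hs.of_inj f.toMonoidHom f.injective)
  rw [← Nat.pow_le_pow_iff_right hm.one_lt, ← hn, ← Nat.card_congr ε.toEquiv]
  exact (Nat.card_le_card_of_injective φ h3).trans h2

variable {p : ℕ} [Fact p.Prime] [CharP K p] {h : Univ ρ}

theorem toral_of_Bo' [IsAlgClosed K] {A : Subgroup G} [Finite A] (ha : A ≤ h.Alg p)
    (hp : (Nat.card A).Coprime p) {g : G} (hg : g ∈ h.Alg p) (H : ∀ a ∈ A, g⁻¹ * a * g ∈ ρ.Bo) :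
    ∃ g ∈ h.Alg p, ∀ a ∈ A, g⁻¹ * a * g ∈ ρ.H := by
  obtain ⟨M, hM, -, h1⟩ := exists_fr (h := h) ((Set.toFinite (A : Set G)).insert g) (by
    rintro x (rfl | hx)
    exacts [hg, ha hx]) 1 one_pos
  let f : A →* Fx (h.fr p M) := ((MulAut.conj g⁻¹).toMonoidHom.comp A.subtype).codRestrict _
    fun a => by
      change h.fr p M (g⁻¹ * a * g⁻¹⁻¹) = _
      simp [h1 g (Set.mem_insert _ _), h1 a (Set.mem_insert_of_mem _ a.2)]
  obtain ⟨k, hk⟩ := Univ.exists_conj_H' hM (A := f.range) (by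
    rintro _ ⟨a, rfl⟩
    simpa [mem_subgroupOf, f] using H a a.2) (hp.coprime_dvd_left (card_range_dvd f))
  exact ⟨g * k, mul_mem hg ⟨M, hM, k.2⟩, fun a ha => by
    simpa [f, mul_assoc] using hk _ ⟨⟨a, ha⟩, rfl⟩⟩

theorem toral_pair' (hK : Big K (Fintype.card ι + Fintype.card B)) {s t : G} (hs : s ∈ h.Alg p)
    (ht : t ∈ h.Alg p) (e : Commute s t) (hp : (orderOf t).Coprime p) {r a : ℕ} (hr : r.Prime)
    (hrp : p.Coprime r) (ha : s ^ r ^ a = 1) :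
    ∃ g ∈ h.Alg p, g⁻¹ * s * g ∈ ρ.H ∧ g⁻¹ * t * g ∈ ρ.H := by
  have := hK.1
  obtain ⟨y, hy, c, hc, rfl⟩ := Univ.exists_conj_tor hK ht hp
  have h1 := mul_mem (mul_mem (inv_mem hy) hs) hy
  have h0 : Commute (y⁻¹ * s * y) (h.r3.tor c) := by
    simpa [mul_assoc] using e.map (MulAut.conj y⁻¹)
  have ha' : (y⁻¹ * s * y) ^ r ^ a = 1 := by rw [inv_conj_pow, ha]; simp
  obtain ⟨g, hg, h2, h3⟩ := Univ.exists_fix_flag hK hc h1 h0 hr hrp ha'
  set u := y⁻¹ * s * y with hu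
  let φ : zpowers u × zpowers (h.r3.tor c) →* G := (zpowers u).subtype.noncommCoprod
    (zpowers _).subtype fun a b => by
      obtain ⟨_, i, rfl⟩ := a
      obtain ⟨_, j, rfl⟩ := b
      exact h0.zpow_zpow i j
  have : Finite (zpowers u) := finite_zpowers.2 (Univ.Alg.isOfFinOrder h1)
  have : Finite (zpowers (h.r3.tor c)) :=
    finite_zpowers.2 (Univ.Alg.isOfFinOrder (h.tor_mem_Alg.2 hc) (p := p))
  have : Finite φ.range := Set.finite_range φ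
  have h4 : ∀ D : Subgroup G, u ∈ D → h.r3.tor c ∈ D → φ.range ≤ D := fun D h5 h6 => by
    rintro _ ⟨⟨a, b⟩, rfl⟩
    exact mul_mem (zpowers_le.2 h5 a.2) (zpowers_le.2 h6 b.2)
  obtain ⟨k, hk, h5⟩ := toral_of_Bo' (h := h) (h4 _ h1 (h.tor_mem_Alg.2 hc))
    (Nat.Coprime.coprime_dvd_left (card_range_dvd φ) (by
      rw [Nat.card_prod, Nat.card_zpowers, Nat.card_zpowers, orderOf_injective _ h.inj]
      exact .mul_left (.coprime_dvd_left (orderOf_dvd_of_pow_eq_one ha') (hrp.symm.pow_left a))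
        (coprime_orderOf p hc))) hg fun a ha => by
      simpa using h4 (ρ.Bo.comap (MulAut.conj g⁻¹).toMonoidHom) (by simpa) (by simpa) ha
  exact ⟨y * k, mul_mem hy hk, by
    simpa [hu, mul_assoc] using h5 u ⟨(⟨_, mem_zpowers _⟩, 1), by simp [φ]⟩, by
    simpa [mul_assoc] using h5 (h.r3.tor c) ⟨(1, ⟨_, mem_zpowers _⟩), by simp [φ]⟩⟩

theorem toral_cent (hK : Big K (Fintype.card ι + Fintype.card B)) {ℓ m : ℕ} (hℓ : ℓ.Prime)
    (hp : ℓ ≠ p) (hm : m.Coprime p) (h0 : ℓ.Coprime m) {t a b : G} (ht : t ∈ h.Alg p)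
    (ha : a ∈ h.Alg p) (hb : b ∈ h.Alg p) (e : Commute b a) (h1 : Commute a t) (h2 : Commute b t)
    (h3 : a ^ ℓ = 1) (h4 : b ^ ℓ = 1) (h5 : t ^ m = 1) :
    ∃ g ∈ h.Alg p, ∀ x ∈ ({t, b, a} : Set G), g⁻¹ * x * g ∈ ρ.H := by
  obtain ⟨g, hg, h6, h7⟩ := toral_pair' hK hb (mul_mem ha ht) (e.mul_right h2)
    (.coprime_dvd_left (orderOf_dvd_of_pow_eq_one (n := ℓ * m) (by
      rw [h1.mul_pow, pow_mul, h3, pow_mul', h5]; simp))
      (.mul_left ((Nat.coprime_primes hℓ Fact.out).2 hp) hm)) hℓ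
    ((Nat.coprime_primes Fact.out hℓ).2 hp.symm) (a := 1) (by simpa)
  obtain ⟨k, hk⟩ := exists_zpow_mul h1 h3 h5 h0
  obtain ⟨k', hk'⟩ := exists_zpow_mul h1.symm h5 h3 h0.symm
  rw [← h1.eq] at hk'
  have h8 : ∀ k : ℤ, g⁻¹ * (a * t) ^ k * g ∈ ρ.H := fun k => by
    simpa using (conj_zpow (a := g⁻¹) (i := k)).subst (motive := (· ∈ ρ.H)) (zpow_mem (by simpa) k)
  refine ⟨g, hg, ?_⟩
  rintro _ (rfl | rfl | rfl)
  · exact hk' ▸ h8 k'
  · exact h6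
  · exact hk ▸ h8 k

theorem In.conj {X : Type*} [Group X] {f : X →* G} (E : In p h f) {g : G} (hg : g ∈ h.Alg p) :
    In p h ((MulAut.conj g).toMonoidHom.comp f) :=
  ⟨E.big, (MulAut.conj g).injective.comp E.inj, fun x => mul_mem (mul_mem hg (E.alg x)) (inv_mem hg)⟩

theorem exists_nw {w : Perm ι} (hw : w ∈ C.W) : ∃ n ∈ h.Alg p, ∀ {m : ℕ} (ψ : AddChar (ZMod m) Kˣ) y,
    n * h.r3.tor (fun i => ψ (y i)) * n⁻¹ = h.r3.tor fun i => ψ ((Mz C m w *ᵥ y) i) :=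
  ⟨_, h.nw_mem_Alg (wd C w), fun ψ y => by rw [conj_tor h.r3 (nW_wd hw).acts, mp_ψ, Mz]⟩

end CF.ExA
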